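import Groth.Agent.Lib.SchDomAss10.Basic
import Groth.Agent.Lib.SchDense.Basic
import Groth.Agent.Lib.AffCompl.Local
import Groth.Agent.Lib.Chev28.FibreStalk
import Groth.Agent.Lib.Unibranch.Points
import Groth.Agent.Lib.EtSec.LocConn
import Groth.Agent.S3694
import Groth.Agent.S12442
import Mathlib.AlgebraicGeometry.Morphisms.FlatMono
import Mathlib.RingTheory.KrullDimension.Basic

/-!
# Morphisms between admissible etale affine factorizations
-/

set_option autoImplicit false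
set_option linter.all false
set_option backward.isDefEq.respectTransparency false
universe u

open CategoryTheory Limits AlgebraicGeometry TopologicalSpace

noncomputable section

namespace GrothLib.EtInf10

/-- Three distinct points specializing one to the next give dimension at least two. -/
theorem two_le_ringKrullDim_stalk {E : Scheme.{u}} {l y z : E} (hly : l ⤳ y) (hne : l ≠ y)
    (hyz : y ⤳ z) (hne' : y ≠ z) : (2 : WithBot ℕ∞) ≤ ringKrullDim (E.presheaf.stalk z) := by
  obtain ⟨a, ha⟩ : l ∈ Set.range (E.fromSpecStalk z) := by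
    rw [Scheme.range_fromSpecStalk]; exact hly.trans hyz
  obtain ⟨b, hb⟩ : y ∈ Set.range (E.fromSpecStalk z) := by
    rw [Scheme.range_fromSpecStalk]; exact hyz
  obtain ⟨c, hc⟩ : z ∈ Set.range (E.fromSpecStalk z) := by
    rw [Scheme.range_fromSpecStalk]; exact (show z ⤳ z from specializes_rfl)
  have hle : ∀ p q : PrimeSpectrum (E.presheaf.stalk z),
      E.fromSpecStalk z p ⤳ E.fromSpecStalk z q → E.fromSpecStalk z p ≠ E.fromSpecStalk z q → p < q :=
    fun p q h h' => lt_of_le_of_ne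
      ((PrimeSpectrum.le_iff_specializes p q).2
        ((E.fromSpecStalk z).isEmbedding.isInducing.specializes_iff.1 h))
      fun e => h' (by rw [e])
  have hab : (show PrimeSpectrum (E.presheaf.stalk z) from a) < b :=
    hle a b (by rw [ha, hb]; exact hly) (by rw [ha, hb]; exact hne)
  have hbc : (show PrimeSpectrum (E.presheaf.stalk z) from b) < c :=
    hle b c (by rw [hb, hc]; exact hyz) (by rw [hb, hc]; exact hne')
  let s : LTSeries (PrimeSpectrum (E.presheaf.stalk z)) :=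
    ((RelSeries.singleton _ (show PrimeSpectrum (E.presheaf.stalk z) from a)).snoc b hab).snoc c
      (by rw [RelSeries.last_snoc]; exact hbc)
  have h := Order.LTSeries.length_le_krullDim s
  exact_mod_cast h

variable {X S E₁ E₂ : Scheme.{u}}

/-- An admissible factorization below two given ones. -/
structure LB (f : X ⟶ S) (g₁ : E₁ ⟶ S) (g₂ : E₂ ⟶ S) (u₁ : X ⟶ E₁) (u₂ : X ⟶ E₂) where
  E : Scheme.{u}
  g : E ⟶ S
  u : X ⟶ E
  v₁ : E₁ ⟶ E
  v₂ : E₂ ⟶ E
  et : Etale g
  aff : IsAffineHom g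
  dom : IsSchemeTheoreticallyDominant u
  hug : u ≫ g = f
  hu1 : u₁ ≫ v₁ = u
  hu2 : u₂ ≫ v₂ = u
  hg1 : v₁ ≫ g = g₁
  hg2 : v₂ ≫ g = g₂

variable {f : X ⟶ S} {g₁ : E₁ ⟶ S} {g₂ : E₂ ⟶ S} {u₁ : X ⟶ E₁} {u₂ : X ⟶ E₂}

attribute [instance] LB.et LB.aff LB.dom

theorem LB.v₁_comp [IsSchemeTheoreticallyDominant u₁] {L L' : LB f g₁ g₂ u₁ u₂} (v : L.E ⟶ L'.E)
    (hv : v ≫ L'.g = L.g) (hu : L.u ≫ v = L'.u) : L.v₁ ≫ v = L'.v₁ :=
  GrothLib.SchDense.ext_of_schDominant L'.g (by rw [Category.assoc, hv, L.hg1, L'.hg1]) u₁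
    (by rw [← Category.assoc, L.hu1, hu, L'.hu1])

theorem LB.v₂_comp [IsSchemeTheoreticallyDominant u₂] {L L' : LB f g₁ g₂ u₁ u₂} (v : L.E ⟶ L'.E)
    (hv : v ≫ L'.g = L.g) (hu : L.u ≫ v = L'.u) : L.v₂ ≫ v = L'.v₂ :=
  GrothLib.SchDense.ext_of_schDominant L'.g (by rw [Category.assoc, hv, L.hg2, L'.hg2]) u₂
    (by rw [← Category.assoc, L.hu2, hu, L'.hu2])

/-- The equivalence relation of `E₁` over the lower bound. -/
def LB.j (L : LB f g₁ g₂ u₁ u₂) : pullback L.v₁ L.v₁ ⟶ pullback g₁ g₁ :=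
  pullback.mapDesc L.v₁ L.v₁ L.g ≫ (pullback.congrHom L.hg1 L.hg1).hom

instance (L : LB f g₁ g₂ u₁ u₂) : IsClosedImmersion L.j := by
  delta LB.j; infer_instance

instance (L : LB f g₁ g₂ u₁ u₂) : IsOpenImmersion L.j := by
  haveI : IsOpenImmersion (pullback.mapDesc L.v₁ L.v₁ L.g) :=
    MorphismProperty.of_isPullback (pullback_map_diagonal_isPullback L.v₁ L.v₁ L.g) inferInstance
  delta LB.j; infer_instance

theorem LB.j_fst (L : LB f g₁ g₂ u₁ u₂) :
    L.j ≫ pullback.fst g₁ g₁ = pullback.fst L.v₁ L.v₁ := by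
  simp [LB.j, pullback.congrHom, pullback.mapDesc]

theorem LB.j_snd (L : LB f g₁ g₂ u₁ u₂) :
    L.j ≫ pullback.snd g₁ g₁ = pullback.snd L.v₁ L.v₁ := by
  simp [LB.j, pullback.congrHom, pullback.mapDesc]

/-- The map of relations of a morphism of lower bounds. -/
theorem exists_rel_map [IsSchemeTheoreticallyDominant u₁] {L L' : LB f g₁ g₂ u₁ u₂} (v : L.E ⟶ L'.E)
    (hv : v ≫ L'.g = L.g) (hu : L.u ≫ v = L'.u) :
    ∃ k : pullback L.v₁ L.v₁ ⟶ pullback L'.v₁ L'.v₁,
      k ≫ L'.j = L.j ∧ k ≫ pullback.fst _ _ = pullback.fst _ _ ∧ k ≫ pullback.snd _ _ = pullback.snd _ _ := by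
  have h := LB.v₁_comp v hv hu
  refine ⟨pullback.lift (pullback.fst _ _) (pullback.snd _ _) (by
    rw [← h, ← Category.assoc, ← Category.assoc, pullback.condition]), ?_, pullback.lift_fst _ _ _,
    pullback.lift_snd _ _ _⟩
  apply pullback.hom_ext
  · rw [Category.assoc, LB.j_fst, LB.j_fst, pullback.lift_fst]
  · rw [Category.assoc, LB.j_snd, LB.j_snd, pullback.lift_snd]

theorem range_j_subset [IsSchemeTheoreticallyDominant u₁] {L L' : LB f g₁ g₂ u₁ u₂} (v : L.E ⟶ L'.E)
    (hv : v ≫ L'.g = L.g) (hu : L.u ≫ v = L'.u) : Set.range L.j ⊆ Set.range L'.j := by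
  obtain ⟨k, hk, -, -⟩ := exists_rel_map v hv hu
  rintro _ ⟨q, rfl⟩
  exact ⟨k q, by rw [← Scheme.Hom.comp_apply, hk]⟩

variable [IsNoetherian S] [Flat f] [LocallyOfFinitePresentation f]

omit [LocallyOfFinitePresentation f] in
theorem LB.flat_u (L : LB f g₁ g₂ u₁ u₂) : Flat L.u := by
  haveI : Flat (L.u ≫ L.g) := by rw [L.hug]; infer_instance
  exact GrothLib.EtSec.flat_of_comp_weaklyEtale L.u L.g

omit [LocallyOfFinitePresentation f] in
theorem LB.isNoetherian_E (L : LB f g₁ g₂ u₁ u₂) : IsNoetherian L.E := by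
  haveI : IsLocallyNoetherian L.E := LocallyOfFiniteType.isLocallyNoetherian L.g
  haveI : CompactSpace L.E := QuasiCompact.compactSpace_of_compactSpace L.g
  exact {}

theorem LB.isOpen_range_u (L : LB f g₁ g₂ u₁ u₂) : IsOpen (Set.range L.u) := by
  haveI := L.flat_u
  haveI : LocallyOfFinitePresentation (L.u ≫ L.g) := by rw [L.hug]; infer_instance
  haveI : LocallyOfFinitePresentation L.u := Groth.Agent.S12442.result L.u L.g
  exact L.u.isOpenMap.isOpen_range

omit [LocallyOfFinitePresentation f] in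
theorem LB.mem_range_u_of_maximal (L : LB f g₁ g₂ u₁ u₂) (l : L.E) (hl : ∀ t, t ⤳ l → t = l) :
    l ∈ Set.range L.u := by
  haveI := L.flat_u
  haveI := L.isNoetherian_E
  exact GrothLib.SchDomAss10.mem_range_of_isAssPoint L.u l (GrothLib.SchDomAss10.isAssPoint_of_isMin l hl)

omit [LocallyOfFinitePresentation f] in
theorem isOpenImmersion_of_range_j [IsSchemeTheoreticallyDominant u₁] {L L' : LB f g₁ g₂ u₁ u₂}
    (v : L.E ⟶ L'.E) (hv : v ≫ L'.g = L.g) (hu : L.u ≫ v = L'.u)
    (hR : Set.range L'.j ⊆ Set.range L.j) : IsOpenImmersion v := by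
  obtain ⟨k, hk, hk1, hk2⟩ := exists_rel_map v hv hu
  haveI : Etale (v ≫ L'.g) := by rw [hv]; infer_instance
  haveI : Etale v := Etale.of_comp v L'.g
  haveI : IsSeparated (v ≫ L'.g) := by rw [hv]; infer_instance
  haveI : IsSeparated v := IsSeparated.of_comp v L'.g
  have hv1 : L.v₁ ≫ v = L'.v₁ := LB.v₁_comp v hv hu
  have hksurj : Function.Surjective k := fun q' => by
    obtain ⟨q, hq⟩ := hR ⟨q', rfl⟩
    exact ⟨q, L'.j.isClosedEmbedding.injective (by rw [← Scheme.Hom.comp_apply, hk, hq])⟩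
  let m : pullback L'.v₁ L'.v₁ ⟶ pullback v v :=
    pullback.map L'.v₁ L'.v₁ v v L.v₁ L.v₁ (𝟙 _) (by rw [Category.comp_id, hv1]) (by rw [Category.comp_id, hv1])
  have hkm : k ≫ m = (pullback.fst L.v₁ L.v₁ ≫ L.v₁) ≫ pullback.diagonal v := by
    apply pullback.hom_ext
    · simp only [m, Category.assoc, pullback.lift_fst, pullback.diagonal_fst, Category.comp_id]
      rw [← Category.assoc, hk1]
    · simp only [m, Category.assoc, pullback.lift_snd, pullback.diagonal_snd, Category.comp_id]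
      rw [← Category.assoc, hk2, pullback.condition]
  have hcl : IsClosed (Set.range (pullback.diagonal v)) :=
    (pullback.diagonal v).isClosedEmbedding.isClosed_range
  have hr1 : Set.range L.u ⊆ Set.range L.v₁ := by
    rintro _ ⟨x, rfl⟩
    exact ⟨u₁ x, by rw [← Scheme.Hom.comp_apply, L.hu1]⟩
  haveI : UniversallyInjective v := by
    rw [UniversallyInjective.iff_diagonal]
    refine ⟨fun x => ?_⟩
    obtain ⟨l, hlx, hl⟩ := GrothLib.Unibranch.exists_maximal_generization x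
    refine hlx.mem_closed hcl ?_
    have h1 : pullback.fst v v l ∈ Set.range L.v₁ :=
      hr1 (L.mem_range_u_of_maximal _ (GrothLib.Unibranch.maximal_map (pullback.fst v v)
        (Flat.generalizingMap _) l hl))
    have h2 : pullback.snd v v l ∈ Set.range L.v₁ :=
      hr1 (L.mem_range_u_of_maximal _ (GrothLib.Unibranch.maximal_map (pullback.snd v v)
        (Flat.generalizingMap _) l hl))
    have hlm : l ∈ Set.range m := by
      rw [AlgebraicGeometry.Scheme.Pullback.range_map]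
      exact ⟨h1, h2⟩
    obtain ⟨q', rfl⟩ := hlm
    obtain ⟨q, rfl⟩ := hksurj q'
    exact ⟨(pullback.fst L.v₁ L.v₁ ≫ L.v₁) q, by rw [← Scheme.Hom.comp_apply, ← hkm, Scheme.Hom.comp_apply]⟩
  exact Groth.Agent.S3694.result v

/-- The maximal points of the complement of the image. -/
def LB.T (L : LB f g₁ g₂ u₁ u₂) : Set L.E :=
  {z | z ∈ (Set.range L.u)ᶜ ∧ ∀ w ∈ (Set.range L.u)ᶜ, w ⤳ z → w = z}

theorem LB.finite_T (L : LB f g₁ g₂ u₁ u₂) : L.T.Finite := by
  haveI := L.isNoetherian_E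
  exact GrothLib.Chev28.finite_maximal_points L.isOpen_range_u.isClosed_compl

/-- An open immersion of lower bounds which is not onto increases the boundary. -/
theorem isIso_of_ncard_le {L L' : LB f g₁ g₂ u₁ u₂} (v : L.E ⟶ L'.E) [IsOpenImmersion v]
    (hv : v ≫ L'.g = L.g) (hu : L.u ≫ v = L'.u) (hT : L'.T.ncard ≤ L.T.ncard) : IsIso v := by
  haveI := L.isNoetherian_E
  haveI := L'.isNoetherian_E
  have hsub : Set.range L'.u ⊆ Set.range v := by
    rintro _ ⟨x, rfl⟩
    exact ⟨L.u x, by rw [← Scheme.Hom.comp_apply, hu]⟩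
  have himage : v '' L.T ⊆ L'.T := by
    rintro _ ⟨z, ⟨hz, hzm⟩, rfl⟩
    refine ⟨fun ⟨x, hx⟩ => hz ⟨x, v.isOpenEmbedding.injective (by rw [← Scheme.Hom.comp_apply, hu, hx])⟩,
      fun w hw hwz => ?_⟩
    obtain ⟨w', rfl⟩ : w ∈ Set.range v := hwz.mem_open v.isOpenEmbedding.isOpen_range ⟨z, rfl⟩
    rw [hzm w' (fun ⟨x, hx⟩ => hw ⟨x, by rw [← hu, Scheme.Hom.comp_apply, hx]⟩)
      (v.isOpenEmbedding.isInducing.specializes_iff.1 hwz)]
  by_contra hiso
  obtain ⟨c, hc⟩ : ∃ c, c ∉ Set.range v := by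
    by_contra! hall
    haveI : Surjective v := ⟨hall⟩
    exact hiso (isIso_of_isOpenImmersion_of_opensRange_eq_top v
      (TopologicalSpace.Opens.ext (Set.eq_univ_of_forall hall)))
  obtain ⟨z, hzr, -, hzm⟩ := GrothLib.Chev28.exists_maximal_generization
    v.isOpenEmbedding.isOpen_range.isClosed_compl (x := c) hc
  haveI : IsAffineHom (v ≫ L'.g) := by rw [hv]; infer_instance
  haveI : IsAffineHom v := MorphismProperty.of_postcomp (W := @IsAffineHom) (W' := @IsSeparated) v L'.g inferInstance inferInstance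
  haveI : IsAffineHom v.opensRange.ι := by
    rw [← Scheme.Hom.isoOpensRange_inv_comp v]; infer_instance
  have hdim : ringKrullDim (L'.E.presheaf.stalk z) ≤ 1 :=
    GrothLib.AffCompl.ringKrullDim_stalk_le_one v.opensRange hzr fun y hy hyz => hzm y hy hyz
  have hzT : z ∈ L'.T := by
    refine ⟨fun h => hzr (hsub h), fun y hy hyz => ?_⟩
    by_cases hyv : y ∈ Set.range v
    · exfalso
      obtain ⟨l, hly, hl⟩ := GrothLib.Unibranch.exists_maximal_generization y
      have hne : l ≠ y := fun h => hy (h ▸ L'.mem_range_u_of_maximal l hl)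
      have hne' : y ≠ z := fun h => hzr (h ▸ hyv)
      exact absurd ((two_le_ringKrullDim_stalk hly hne hyz hne').trans hdim) (by decide)
    · exact hzm y hyv hyz
  have h1 : insert z (v '' L.T) ⊆ L'.T := Set.insert_subset hzT himage
  have h2 : (insert z (v '' L.T)).ncard = L.T.ncard + 1 := by
    rw [Set.ncard_insert_of_notMem (by rintro ⟨a, _, ha⟩; exact hzr ⟨a, ha⟩) (L.finite_T.image _),
      Set.ncard_image_of_injective _ v.isOpenEmbedding.injective]
  have h3 := Set.ncard_le_ncard h1 L'.finite_T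
  omega

end GrothLib.EtInf10
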